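import Cfsg.Prelude.Def_G2
import Cfsg.Agent.Covering2.G2Orbit
import Mathlib.LinearAlgebra.Matrix.GeneralLinearGroup.Card

/-!
`|G₂(3)| ≤ 756 · 5616` by the orbit and the stabiliser of the first idempotent.
-/

set_option autoImplicit false
set_option maxRecDepth 100000
set_option maxHeartbeats 1000000

namespace Cfsg.Agent.G2Amalgam.Model

open Matrix Cfsg.Lie Covering2.Octonion

/-- Triples over the field with three elements. -/
abbrev T3 : Type := ZMod 3 × ZMod 3 × ZMod 3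

/-- The coordinates of the vectors of trace one. -/
def pts : Finset (ZMod 3 × T3 × T3) :=
  Finset.univ.filter fun p => p.1 * (1 - p.1) -
    (p.2.1.1 * p.2.2.1 + p.2.1.2.1 * p.2.2.2.1 + p.2.1.2.2 * p.2.2.2.2) = 0

theorem pts_card : pts.card = 756 := by decide +kernel

theorem card_det_one : Nat.card {A : Matrix (Fin 3) (Fin 3) (ZMod 3) // A.det = 1} ≤ 5616 := by
  have h : Nat.card ({A : Matrix (Fin 3) (Fin 3) (ZMod 3) // A.det = 1} × Bool) ≤
      Nat.card (GL (Fin 3) (ZMod 3)) := by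
    refine Nat.card_le_card_of_injective (fun p => Matrix.GeneralLinearGroup.mkOfDetNeZero
      (if p.2 then p.1.1 else -p.1.1) (by
        cases p.2
        · simp [Matrix.det_neg, p.1.2]
        · simp [p.1.2])) ?_
    rintro ⟨⟨A, hA⟩, a⟩ ⟨⟨B, hB⟩, b⟩ h
    have h' : (if a then A else -A) = (if b then B else -B) :=
      congrArg (fun g : GL (Fin 3) (ZMod 3) => (g : Matrix (Fin 3) (Fin 3) (ZMod 3))) h
    have hd := congrArg Matrix.det h'
    cases a <;> cases b <;> simp [Matrix.det_neg, hA, hB] at hd h' ⊢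
    · exact h'
    · exact absurd hd (by decide)
    · exact absurd hd (by decide)
    · exact h'
  rw [Nat.card_prod, Matrix.card_GL_field] at h
  simp only [Nat.card_eq_fintype_card, Fintype.card_bool] at h ⊢
  simp only [ZMod.card, Fin.prod_univ_three] at h
  norm_num at h
  omega

/-- The first idempotent. -/
def eT : Fin 8 → ZMod 3 := ![1, 0, 0, 0, 0, 0, 0, 0]

/-- The action on the vectors `a`. -/
def blockA (g : ↥(Lie.G2 (ZMod 3))) : Matrix (Fin 3) (Fin 3) (ZMod 3) :=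
  Matrix.of fun i j => ap g (Pi.single ⟨j.val + 1, by omega⟩ 1) ⟨i.val + 1, by omega⟩

theorem basis_mul : zornMul (Pi.single 2 1) (Pi.single 3 1) = (Pi.single 4 1 : Fin 8 → ZMod 3) ∧
    zornMul (Pi.single 3 1) (Pi.single 1 1) = (Pi.single 5 1 : Fin 8 → ZMod 3) ∧
    zornMul (Pi.single 1 1) (Pi.single 2 1) = (Pi.single 6 1 : Fin 8 → ZMod 3) ∧
    zornMul (Pi.single 1 1) (Pi.single 4 1) = (eT : Fin 8 → ZMod 3) ∧
    (Pi.single 0 1 : Fin 8 → ZMod 3) = eT ∧ (Pi.single 7 1 : Fin 8 → ZMod 3) = Covering2.Octonion.one - eT := by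
  decide +kernel

theorem space_a : ∀ k : Fin 8, k = 1 ∨ k = 2 ∨ k = 3 →
    zornMul eT (Pi.single k 1) = (Pi.single k 1 : Fin 8 → ZMod 3) ∧
      zornMul (Pi.single k 1) eT = (0 : Fin 8 → ZMod 3) := by decide +kernel

theorem image_a {g : ↥(Lie.G2 (ZMod 3))} (hg : ap g eT = eT) {k : Fin 8} (hk : k = 1 ∨ k = 2 ∨ k = 3) :
    ap g (Pi.single k 1) 0 = 0 ∧ ap g (Pi.single k 1) 4 = 0 ∧ ap g (Pi.single k 1) 5 = 0 ∧
      ap g (Pi.single k 1) 6 = 0 ∧ ap g (Pi.single k 1) 7 = 0 := by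
  obtain ⟨h1, h2⟩ := space_a k hk
  have e1 := ap_zornMul g eT (Pi.single k 1)
  have e2 := ap_zornMul g (Pi.single k 1) eT
  rw [h1, hg] at e1
  rw [h2, hg, ← zero_smul (ZMod 3) (0 : Fin 8 → ZMod 3), ap_smul, zero_smul] at e2
  have a4 := congrFun e1 4; have a5 := congrFun e1 5; have a6 := congrFun e1 6; have a7 := congrFun e1 7
  have b0 := congrFun e2 0
  rw [zornMul_4] at a4; rw [zornMul_5] at a5; rw [zornMul_6] at a6; rw [zornMul_7] at a7
  rw [zornMul_0] at b0
  simp [eT] at a4 a5 a6 a7 b0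
  exact ⟨b0.symm, a4, a5, a6, a7⟩

theorem det_blockA {g : ↥(Lie.G2 (ZMod 3))} (hg : ap g eT = eT) : (blockA g).det = 1 := by
  obtain ⟨h4, -, -, h14, -, -⟩ := basis_mul
  obtain ⟨p0, p4, p5, p6, p7⟩ := image_a hg (k := 2) (by simp)
  obtain ⟨q0, q4, q5, q6, q7⟩ := image_a hg (k := 3) (by simp)
  obtain ⟨r0, r4, r5, r6, r7⟩ := image_a hg (k := 1) (by simp)
  have e := congrArg (ap g) h14
  rw [← h4, ap_zornMul, ap_zornMul, hg] at e
  have e0 := congrFun e 0
  simp only [zornMul_0, zornMul_4, zornMul_5, zornMul_6, p0, p4, p5, p6, p7, q0, q4, q5, q6, r0] at e0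
  rw [Matrix.det_fin_three]
  simp only [blockA, Matrix.of_apply, Fin.isValue, Fin.val_zero, Fin.val_one, Fin.val_two, Nat.zero_add,
    Nat.reduceAdd, Fin.mk_one, show (⟨2, by omega⟩ : Fin 8) = 2 from rfl, show (⟨3, by omega⟩ : Fin 8) = 3 from rfl]
  simp [eT] at e0
  linear_combination e0

theorem blockA_inj {g h : ↥(Lie.G2 (ZMod 3))} (hg : ap g eT = eT) (hh : ap h eT = eT)
    (e : blockA g = blockA h) : g = h := by
  have ha : ∀ k : Fin 8, k = 1 ∨ k = 2 ∨ k = 3 → ap g (Pi.single k 1) = ap h (Pi.single k 1) := by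
    intro k hk
    obtain ⟨p0, p4, p5, p6, p7⟩ := image_a hg hk
    obtain ⟨q0, q4, q5, q6, q7⟩ := image_a hh hk
    have hij : ∀ i j : Fin 3, ap g (Pi.single ⟨j.val + 1, by omega⟩ 1) ⟨i.val + 1, by omega⟩ =
        ap h (Pi.single ⟨j.val + 1, by omega⟩ 1) ⟨i.val + 1, by omega⟩ := fun i j => congrFun (congrFun e i) j
    refine ext8 (p0.trans q0.symm) ?_ ?_ ?_ (p4.trans q4.symm) (p5.trans q5.symm) (p6.trans q6.symm)
      (p7.trans q7.symm) <;> rcases hk with rfl | rfl | rfl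
    exacts [hij 0 0, hij 0 1, hij 0 2, hij 1 0, hij 1 1, hij 1 2, hij 2 0, hij 2 1, hij 2 2]
  obtain ⟨h4, h5, h6, -, h0, h7⟩ := basis_mul
  have hall : ∀ k : Fin 8, ap g (Pi.single k 1) = ap h (Pi.single k 1) := by
    intro k
    fin_cases k
    · show ap g (Pi.single 0 1) = ap h (Pi.single 0 1)
      rw [h0, hg, hh]
    · exact ha 1 (by simp)
    · exact ha 2 (by simp)
    · exact ha 3 (by simp)
    · show ap g (Pi.single 4 1) = ap h (Pi.single 4 1)
      rw [← h4, ap_zornMul, ap_zornMul, ha 2 (by simp), ha 3 (by simp)]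
    · show ap g (Pi.single 5 1) = ap h (Pi.single 5 1)
      rw [← h5, ap_zornMul, ap_zornMul, ha 3 (by simp), ha 1 (by simp)]
    · show ap g (Pi.single 6 1) = ap h (Pi.single 6 1)
      rw [← h6, ap_zornMul, ap_zornMul, ha 1 (by simp), ha 2 (by simp)]
    · show ap g (Pi.single 7 1) = ap h (Pi.single 7 1)
      rw [h7, ap_sub, ap_sub, hg, hh, ap_fix_one, ap_fix_one]
  refine Subtype.ext (Units.ext (Matrix.ext fun i j => ?_))
  simpa [ap] using congrFun (hall j) i

theorem card_le : Nat.card ↥(Lie.G2 (ZMod 3)) ≤ 4245696 := by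
  classical
  have : Finite ↥(Lie.G2 (ZMod 3)) := inferInstance
  let f : ↥(Lie.G2 (ZMod 3)) → ZMod 3 × T3 × T3 := fun g =>
    (ap g eT 0, (ap g eT 1, ap g eT 2, ap g eT 3), (ap g eT 4, ap g eT 5, ap g eT 6))
  have htr : ∀ g, ap g eT 0 + ap g eT 7 = 1 ∧
      ap g eT 0 * ap g eT 7 - (ap g eT 1 * ap g eT 4 + ap g eT 2 * ap g eT 5 + ap g eT 3 * ap g eT 6) = 0 :=
    fun g => ⟨(invariant g eT).1.trans (by decide +kernel), (invariant g eT).2.trans (by decide +kernel)⟩
  have hmaps : ∀ g, f g ∈ pts := fun g => by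
    obtain ⟨h1, h2⟩ := htr g
    rw [eq_sub_of_add_eq' h1] at h2
    simp only [pts, Finset.mem_filter, Finset.mem_univ, true_and, f]
    exact h2
  have hfib : ∀ g h, f g = f h → ap g eT = ap h eT := fun g h e => by
    simp only [f, Prod.mk.injEq] at e
    obtain ⟨e0, ⟨e1, e2, e3⟩, e4, e5, e6⟩ := e
    exact ext8 e0 e1 e2 e3 e4 e5 e6
      (by rw [eq_sub_of_add_eq' (htr g).1, eq_sub_of_add_eq' (htr h).1, e0])
  let _ : Fintype ↥(Lie.G2 (ZMod 3)) := Fintype.ofFinite _
  rw [Nat.card_eq_fintype_card, ← Finset.card_univ,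
    Finset.card_eq_sum_card_fiberwise (t := pts) (f := f) (fun g _ => hmaps g)]
  calc ∑ q ∈ pts, (Finset.univ.filter fun g => f g = q).card ≤ ∑ _q ∈ pts, 5616 := by
        refine Finset.sum_le_sum fun q _ => ?_
        rcases (Finset.univ.filter fun g => f g = q).eq_empty_or_nonempty with h | ⟨g₀, hg₀⟩
        · simp [h]
        · refine le_trans ?_ card_det_one
          rw [← Nat.card_eq_finsetCard]
          have hstab : ∀ g ∈ Finset.univ.filter (fun g => f g = q), ap (g₀⁻¹ * g) eT = eT := fun g hg => by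
            rw [ap_mul, hfib g g₀ ((Finset.mem_filter.1 hg).2.trans (Finset.mem_filter.1 hg₀).2.symm), ap_inv]
          refine Nat.card_le_card_of_injective
            (fun g => ⟨blockA (g₀⁻¹ * g.1), det_blockA (hstab _ g.2)⟩) fun a b hab => Subtype.ext ?_
          exact mul_left_cancel (blockA_inj (hstab _ a.2) (hstab _ b.2) (congrArg Subtype.val hab))
    _ = 4245696 := by rw [Finset.sum_const, pts_card, smul_eq_mul]

end Cfsg.Agent.G2Amalgam.Model
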