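import Cfsg.Prelude.Def_G2

/-!
Transport of `G₂` of Zorn's algebra along an isomorphism of fields.
-/

set_option autoImplicit false

namespace Cfsg.Agent.G2Amalgam.Model

open Matrix Cfsg.Lie

universe u v

variable {F : Type u} [Field F] {K : Type v} [Field K] (e : F ≃+* K)

theorem zornMul_comp (x y : Fin 8 → F) : zornMul (e ∘ x) (e ∘ y) = e ∘ zornMul x y := by
  funext i
  fin_cases i <;> simp [zornMul, zA, zB, dot3, cross3]

theorem mulVec_comp (M : Matrix (Fin 8) (Fin 8) F) (x : Fin 8 → F) : M.map e *ᵥ (e ∘ x) = e ∘ (M *ᵥ x) := by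
  funext i
  simp [Matrix.mulVec, dotProduct, map_sum, map_mul]

/-- The map on invertible matrices. -/
def glEquiv : GL (Fin 8) F ≃* GL (Fin 8) K := Units.mapEquiv e.mapMatrix.toMulEquiv

theorem glEquiv_mem {g : GL (Fin 8) F} (hg : g ∈ Lie.G2 F) : glEquiv e g ∈ Lie.G2 K := by
  intro x y
  obtain ⟨x', rfl⟩ : ∃ x' : Fin 8 → F, e ∘ x' = x := ⟨e.symm ∘ x, by funext i; simp⟩
  obtain ⟨y', rfl⟩ : ∃ y' : Fin 8 → F, e ∘ y' = y := ⟨e.symm ∘ y, by funext i; simp⟩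
  show (g : Matrix (Fin 8) (Fin 8) F).map e *ᵥ zornMul (e ∘ x') (e ∘ y') =
    zornMul ((g : Matrix (Fin 8) (Fin 8) F).map e *ᵥ (e ∘ x')) ((g : Matrix (Fin 8) (Fin 8) F).map e *ᵥ (e ∘ y'))
  rw [zornMul_comp, mulVec_comp, mulVec_comp, mulVec_comp, zornMul_comp]
  exact congrArg (e ∘ ·) (hg x' y')

include e in
theorem g2_equiv : Nonempty (↥(Lie.G2 F) ≃* ↥(Lie.G2 K)) := by
  refine ⟨((glEquiv e).subgroupMap (Lie.G2 F)).trans (MulEquiv.subgroupCongr (le_antisymm ?_ ?_))⟩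
  · rintro _ ⟨g, hg, rfl⟩
    exact glEquiv_mem e hg
  · intro g hg
    refine ⟨glEquiv e.symm g, glEquiv_mem e.symm hg, ?_⟩
    refine Units.ext ?_
    show ((g : Matrix (Fin 8) (Fin 8) K).map e.symm).map e = g
    ext i j
    simp

end Cfsg.Agent.G2Amalgam.Model
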