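import Cfsg.Agent.G2Amalgam.Model.Data
import Cfsg.Agent.G2Amalgam.Defs

/-!
The root matrices satisfy the relations of `Roots` inside `G₂` of Zorn's algebra.
-/

set_option autoImplicit false
set_option maxRecDepth 100000
set_option maxHeartbeats 4000000

namespace Cfsg.Agent.G2Amalgam.Model

open Matrix Cfsg.Lie

/-- The product of Zorn's algebra as a bilinear map. -/
def zornL (F : Type*) [Field F] : (Fin 8 → F) →ₗ[F] (Fin 8 → F) →ₗ[F] (Fin 8 → F) :=
  LinearMap.mk₂ F zornMul
    (fun x x' y => by funext i; fin_cases i <;> simp [zornMul, zA, zB, dot3, cross3] <;> ring)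
    (fun c x y => by funext i; fin_cases i <;> simp [zornMul, zA, zB, dot3, cross3] <;> ring)
    (fun x y y' => by funext i; fin_cases i <;> simp [zornMul, zA, zB, dot3, cross3] <;> ring)
    (fun c x y => by funext i; fin_cases i <;> simp [zornMul, zA, zB, dot3, cross3] <;> ring)

theorem mem_of_basis {F : Type*} [Field F] (g : GL (Fin 8) F)
    (h : ∀ i j : Fin 8, (g : Matrix (Fin 8) (Fin 8) F) *ᵥ zornMul (Pi.single i 1) (Pi.single j 1) =
      zornMul ((g : Matrix (Fin 8) (Fin 8) F) *ᵥ Pi.single i 1) ((g : Matrix (Fin 8) (Fin 8) F) *ᵥ Pi.single j 1)) :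
    g ∈ Lie.G2 F := by
  have e : (zornL F).compr₂ (g : Matrix (Fin 8) (Fin 8) F).mulVecLin =
      (zornL F).compl₁₂ (g : Matrix (Fin 8) (Fin 8) F).mulVecLin (g : Matrix (Fin 8) (Fin 8) F).mulVecLin :=
    LinearMap.ext_basis (Pi.basisFun F (Fin 8)) (Pi.basisFun F (Fin 8)) fun i j => by
      simpa [zornL] using h i j
  intro x y
  simpa [zornL] using congrArg (fun B => B x y) e

theorem yM_mem : ∀ r : Fin 12, ∀ i j : Fin 8, yM r *ᵥ zornMul (Pi.single i 1) (Pi.single j 1) =
    zornMul (yM r *ᵥ Pi.single i 1) (yM r *ᵥ Pi.single j 1) := by decide +kernel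

theorem yM_cube : ∀ r : Fin 12, yM r * (yM r * yM r) = 1 ∧ yM r * yM r * yM r = 1 := by decide +kernel

/-- A root matrix as an invertible matrix. -/
def yU (r : Fin 12) : GL (Fin 8) (ZMod 3) := ⟨yM r, yM r * yM r, (yM_cube r).1, (yM_cube r).2⟩

/-- A root matrix as an automorphism. -/
def yG (r : Fin 12) : ↥(Lie.G2 (ZMod 3)) := ⟨yU r, mem_of_basis _ (yM_mem r)⟩

/-- The matrix of an automorphism. -/
def mat : ↥(Lie.G2 (ZMod 3)) →* M8 := (Units.coeHom M8).comp (Lie.G2 (ZMod 3)).subtype

theorem mat_injective : Function.Injective mat := fun a b h => Subtype.ext (Units.ext h)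

theorem mat_yG (r : Fin 12) : mat (yG r) = yM r := rfl

theorem wb_eq : y6 * y5 * y6 = wb := by decide +kernel

theorem wa_eq : y7 * y4 * y7 = wa := by decide +kernel

theorem auxA_eq : y8 * y8 * y9 = auxA := by decide +kernel

theorem auxB_eq : auxA * y10 * (y11 * y11) = auxB := by decide +kernel

/-- The expected image of a root matrix under a Weyl matrix. -/
def tgt (s : Bool) (r : Fin 12) : M8 :=
  let p := (nTab s).getD r.val (0, false)
  if p.2 then yM p.1 * yM p.1 else yM p.1

theorem wey_conj : ∀ s : Bool, ∀ r : Fin 12,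
    (cond s wa wb) * yM r = tgt s r * (cond s wa wb) := by decide +kernel

theorem wey_fourth : ∀ s : Bool, cond s wa wb * cond s wa wb * (cond s wa wb * cond s wa wb) = 1 := by
  decide +kernel

theorem rel78 : y7 * y8 = y9 * (y8 * y7) := by decide +kernel

theorem rel610 : y6 * y10 = y11 * (y10 * y6) := by decide +kernel

theorem rel76 : y7 * y6 = auxB * (y6 * y7) := by decide +kernel

theorem rel_ab : ∀ r s : Fin 12, 8 ≤ r.val → 8 ≤ s.val → yM r * yM s = yM s * yM r := by decide +kernel

theorem rel7 : ∀ r : Fin 12, 9 ≤ r.val → yM 7 * yM r = yM r * yM 7 := by decide +kernel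

theorem rel6 : ∀ r : Fin 12, r = 8 ∨ r = 9 ∨ r = 11 → yM 6 * yM r = yM r * yM 6 := by decide +kernel

theorem mat_wey (s : Bool) : mat (wey yG s) = cond s wa wb := by
  cases s <;> simp only [wey, map_mul, mat_yG] <;> first | exact wb_eq | exact wa_eq

theorem yG_cube (r : Fin 12) : yG r ^ 3 = 1 := by
  refine mat_injective ?_
  rw [pow_succ, pow_two, map_mul, map_mul, map_one, mat_yG]
  exact (yM_cube r).2

theorem commute_of {r s : Fin 12} (h : yM r * yM s = yM s * yM r) : Commute (yG r) (yG s) :=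
  mat_injective (by rw [map_mul, map_mul, mat_yG, mat_yG, h])

theorem yG_roots : Roots yG where
  cube := yG_cube
  conj s r := by
    refine mul_inv_eq_iff_eq_mul.2 (mat_injective ?_)
    rw [map_mul, map_mul, mat_wey, mat_yG, wey_conj]
    congr 1
    obtain ⟨i, hi⟩ : ∃ p, (nTab s).getD r.val (0, false) = p := ⟨_, rfl⟩
    rcases i with ⟨i, b⟩
    have hinv : (yG i)⁻¹ = yG i * yG i := inv_eq_of_mul_eq_one_right (by
      rw [← mul_assoc, ← pow_two, ← pow_succ, yG_cube])
    unfold tgt sgn; simp only [hi]; cases b <;> simp [hinv, mat_yG]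
  wey_four s := by
    refine mat_injective ?_
    rw [show (4 : ℕ) = 2 + 2 from rfl, pow_add, pow_two, map_mul, map_mul, map_one, mat_wey]
    exact wey_fourth s
  c78 := by
    refine mul_inv_eq_iff_eq_mul.2 (mul_inv_eq_iff_eq_mul.2 (mat_injective ?_))
    simp only [map_mul, mat_yG, mul_assoc]
    exact rel78
  c610 := by
    refine mul_inv_eq_iff_eq_mul.2 (mul_inv_eq_iff_eq_mul.2 (mat_injective ?_))
    simp only [map_mul, mat_yG, mul_assoc]
    exact rel610
  c76 := by
    refine mul_inv_eq_iff_eq_mul.2 (mul_inv_eq_iff_eq_mul.2 (mat_injective ?_))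
    have hinv : ∀ k, (yG k)⁻¹ = yG k * yG k := fun k => inv_eq_of_mul_eq_one_right (by
      rw [← mul_assoc, ← pow_two, ← pow_succ, yG_cube])
    simp only [hinv, map_mul, mat_yG]
    rw [show yM 8 * yM 8 * yM 9 = auxA from auxA_eq, show auxA * yM 10 * (yM 11 * yM 11) = auxB from auxB_eq,
      mul_assoc]
    exact rel76
  abelian r s hr hs := commute_of (rel_ab r s hr hs)
  c7 r hr := commute_of (rel7 r hr)
  c6 r hr := commute_of (rel6 r hr)

theorem yG_ne : yG 7 ≠ 1 := fun h => by
  have : yM 7 = 1 := (mat_yG 7).symm.trans ((congrArg mat h).trans (map_one mat))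
  exact absurd this (by decide +kernel)

end Cfsg.Agent.G2Amalgam.Model
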