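import Mathlib

/-!
Twelve root matrices of `G₂(3)` acting on Zorn's algebra.
-/

set_option autoImplicit false

namespace Cfsg.Agent.G2Amalgam.Model

/-- Eight by eight matrices over the field with three elements. -/
abbrev M8 : Type := Matrix (Fin 8) (Fin 8) (ZMod 3)

/-- A root matrix. -/
def y0 : M8 :=
  !![1, 0, 0, 0, 0, 0, 0, 0;
    0, 1, 0, 0, 0, 0, 0, 0;
    0, 0, 1, 0, 0, 0, 0, 0;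
    0, 0, 1, 1, 0, 0, 0, 0;
    0, 0, 0, 0, 1, 0, 0, 0;
    0, 0, 0, 0, 0, 1, 2, 0;
    0, 0, 0, 0, 0, 0, 1, 0;
    0, 0, 0, 0, 0, 0, 0, 1]

/-- A root matrix. -/
def y1 : M8 :=
  !![1, 0, 0, 0, 0, 0, 0, 0;
    0, 1, 0, 0, 0, 0, 0, 0;
    0, 0, 1, 0, 0, 0, 0, 0;
    0, 1, 0, 1, 0, 0, 0, 0;
    0, 0, 0, 0, 1, 0, 2, 0;
    0, 0, 0, 0, 0, 1, 0, 0;
    0, 0, 0, 0, 0, 0, 1, 0;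
    0, 0, 0, 0, 0, 0, 0, 1]

/-- A root matrix. -/
def y2 : M8 :=
  !![1, 0, 0, 0, 0, 0, 1, 0;
    0, 1, 0, 0, 0, 0, 0, 0;
    0, 0, 1, 0, 0, 0, 0, 0;
    2, 0, 0, 1, 0, 0, 2, 1;
    0, 0, 1, 0, 1, 0, 0, 0;
    0, 2, 0, 0, 0, 1, 0, 0;
    0, 0, 0, 0, 0, 0, 1, 0;
    0, 0, 0, 0, 0, 0, 2, 1]

/-- A root matrix. -/
def y3 : M8 :=
  !![1, 0, 1, 0, 0, 0, 0, 0;
    0, 1, 0, 0, 0, 0, 2, 0;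
    0, 0, 1, 0, 0, 0, 0, 0;
    0, 0, 0, 1, 1, 0, 0, 0;
    0, 0, 0, 0, 1, 0, 0, 0;
    2, 0, 2, 0, 0, 1, 0, 1;
    0, 0, 0, 0, 0, 0, 1, 0;
    0, 0, 2, 0, 0, 0, 0, 1]

/-- A root matrix. -/
def y4 : M8 :=
  !![1, 1, 0, 0, 0, 0, 0, 0;
    0, 1, 0, 0, 0, 0, 0, 0;
    0, 0, 1, 0, 0, 0, 1, 0;
    0, 0, 0, 1, 0, 2, 0, 0;
    2, 2, 0, 0, 1, 0, 0, 1;
    0, 0, 0, 0, 0, 1, 0, 0;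
    0, 0, 0, 0, 0, 0, 1, 0;
    0, 2, 0, 0, 0, 0, 0, 1]

/-- A root matrix. -/
def y5 : M8 :=
  !![1, 0, 0, 0, 0, 0, 0, 0;
    0, 1, 2, 0, 0, 0, 0, 0;
    0, 0, 1, 0, 0, 0, 0, 0;
    0, 0, 0, 1, 0, 0, 0, 0;
    0, 0, 0, 0, 1, 0, 0, 0;
    0, 0, 0, 0, 1, 1, 0, 0;
    0, 0, 0, 0, 0, 0, 1, 0;
    0, 0, 0, 0, 0, 0, 0, 1]

/-- A root matrix. -/
def y6 : M8 :=
  !![1, 0, 0, 0, 0, 0, 0, 0;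
    0, 1, 0, 0, 0, 0, 0, 0;
    0, 1, 1, 0, 0, 0, 0, 0;
    0, 0, 0, 1, 0, 0, 0, 0;
    0, 0, 0, 0, 1, 2, 0, 0;
    0, 0, 0, 0, 0, 1, 0, 0;
    0, 0, 0, 0, 0, 0, 1, 0;
    0, 0, 0, 0, 0, 0, 0, 1]

/-- A root matrix. -/
def y7 : M8 :=
  !![1, 0, 0, 0, 1, 0, 0, 0;
    2, 1, 0, 0, 2, 0, 0, 1;
    0, 0, 1, 0, 0, 0, 0, 0;
    0, 0, 0, 1, 0, 0, 0, 0;
    0, 0, 0, 0, 1, 0, 0, 0;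
    0, 0, 0, 1, 0, 1, 0, 0;
    0, 0, 2, 0, 0, 0, 1, 0;
    0, 0, 0, 0, 2, 0, 0, 1]

/-- A root matrix. -/
def y8 : M8 :=
  !![1, 0, 0, 0, 0, 1, 0, 0;
    0, 1, 0, 0, 0, 0, 0, 0;
    2, 0, 1, 0, 0, 2, 0, 1;
    0, 0, 0, 1, 0, 0, 0, 0;
    0, 0, 0, 2, 1, 0, 0, 0;
    0, 0, 0, 0, 0, 1, 0, 0;
    0, 1, 0, 0, 0, 0, 1, 0;
    0, 0, 0, 0, 0, 2, 0, 1]

/-- A root matrix. -/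
def y9 : M8 :=
  !![1, 0, 0, 1, 0, 0, 0, 0;
    0, 1, 0, 0, 0, 1, 0, 0;
    0, 0, 1, 0, 2, 0, 0, 0;
    0, 0, 0, 1, 0, 0, 0, 0;
    0, 0, 0, 0, 1, 0, 0, 0;
    0, 0, 0, 0, 0, 1, 0, 0;
    2, 0, 0, 2, 0, 0, 1, 1;
    0, 0, 0, 2, 0, 0, 0, 1]

/-- A root matrix. -/
def y10 : M8 :=
  !![1, 0, 0, 0, 0, 0, 0, 0;
    0, 1, 0, 2, 0, 0, 0, 0;
    0, 0, 1, 0, 0, 0, 0, 0;
    0, 0, 0, 1, 0, 0, 0, 0;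
    0, 0, 0, 0, 1, 0, 0, 0;
    0, 0, 0, 0, 0, 1, 0, 0;
    0, 0, 0, 0, 1, 0, 1, 0;
    0, 0, 0, 0, 0, 0, 0, 1]

/-- A root matrix. -/
def y11 : M8 :=
  !![1, 0, 0, 0, 0, 0, 0, 0;
    0, 1, 0, 0, 0, 0, 0, 0;
    0, 0, 1, 2, 0, 0, 0, 0;
    0, 0, 0, 1, 0, 0, 0, 0;
    0, 0, 0, 0, 1, 0, 0, 0;
    0, 0, 0, 0, 0, 1, 0, 0;
    0, 0, 0, 0, 0, 1, 1, 0;
    0, 0, 0, 0, 0, 0, 0, 1]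

/-- The root matrices. -/
def yM : Fin 12 → M8 := ![y0, y1, y2, y3, y4, y5, y6, y7, y8, y9, y10, y11]

/-- The Weyl matrix of the long simple root. -/
def wb : M8 :=
  !![1, 0, 0, 0, 0, 0, 0, 0;
    0, 0, 2, 0, 0, 0, 0, 0;
    0, 1, 0, 0, 0, 0, 0, 0;
    0, 0, 0, 1, 0, 0, 0, 0;
    0, 0, 0, 0, 0, 2, 0, 0;
    0, 0, 0, 0, 1, 0, 0, 0;
    0, 0, 0, 0, 0, 0, 1, 0;
    0, 0, 0, 0, 0, 0, 0, 1]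

/-- The Weyl matrix of the short simple root. -/
def wa : M8 :=
  !![0, 0, 0, 0, 0, 0, 0, 1;
    0, 0, 0, 0, 2, 0, 0, 0;
    0, 0, 0, 0, 0, 0, 1, 0;
    0, 0, 0, 0, 0, 2, 0, 0;
    0, 2, 0, 0, 0, 0, 0, 0;
    0, 0, 0, 1, 0, 0, 0, 0;
    0, 0, 2, 0, 0, 0, 0, 0;
    1, 0, 0, 0, 0, 0, 0, 0]

/-- A partial product. -/
def auxA : M8 :=
  !![1, 0, 0, 1, 0, 2, 0, 0;
    0, 1, 0, 0, 0, 1, 0, 0;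
    1, 0, 1, 2, 2, 2, 0, 2;
    0, 0, 0, 1, 0, 0, 0, 0;
    0, 0, 0, 1, 1, 0, 0, 0;
    0, 0, 0, 0, 0, 1, 0, 0;
    2, 2, 0, 2, 0, 2, 1, 1;
    0, 0, 0, 2, 0, 1, 0, 1]

/-- The value of a commutator. -/
def auxB : M8 :=
  !![1, 0, 0, 1, 0, 2, 0, 0;
    0, 1, 0, 2, 0, 1, 0, 0;
    1, 0, 1, 0, 2, 2, 0, 2;
    0, 0, 0, 1, 0, 0, 0, 0;
    0, 0, 0, 1, 1, 0, 0, 0;
    0, 0, 0, 0, 0, 1, 0, 0;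
    2, 2, 0, 0, 1, 1, 1, 1;
    0, 0, 0, 2, 0, 1, 0, 1]

end Cfsg.Agent.G2Amalgam.Model
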